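import Groth.Agent.Lib.WeakEtale.OverField
import Groth.Agent.Lib.DiagGrp.TrivOver
import Mathlib.AlgebraicGeometry.Morphisms.Etale
import Mathlib.AlgebraicGeometry.Morphisms.QuasiFinite
import Mathlib.RingTheory.Jacobson.Ring
import Mathlib.RingTheory.Unramified.Finite

/-!
# The scheme of connected components: the connected case
-/

set_option autoImplicit false
set_option maxHeartbeats 600000
universe u

open CategoryTheory CategoryTheory.Limits AlgebraicGeometry

namespace GrothLib.CompScheme5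

open GrothLib.WeakEtale (IsSepElem sepSubalgebra)

theorem idempotent_trivial {C : Scheme.{u}} [ConnectedSpace C] {e : Γ(C, ⊤)} (he : e * e = e) :
    e = 0 ∨ e = 1 := by
  have hdisj : C.basicOpen e ⊓ C.basicOpen (1 - e) = ⊥ := by
    rw [← Scheme.basicOpen_mul, show e * (1 - e) = 0 by rw [mul_sub, mul_one, he, sub_self], Scheme.basicOpen_zero]
  have hcov : (C.basicOpen e : Set C) ∪ C.basicOpen (1 - e) = Set.univ := Set.eq_univ_of_forall fun x => by
    have h1 : IsUnit (C.presheaf.germ ⊤ x trivial e + C.presheaf.germ ⊤ x trivial (1 - e)) := by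
      rw [← map_add, add_sub_cancel, map_one]; exact isUnit_one
    rcases IsLocalRing.isUnit_or_isUnit_of_isUnit_add h1 with h | h
    · exact Or.inl ((C.mem_basicOpen e x (U := ⊤) trivial).2 h)
    · exact Or.inr ((C.mem_basicOpen (1 - e) x (U := ⊤) trivial).2 h)
  have hd : Disjoint (C.basicOpen e : Set C) (C.basicOpen (1 - e)) :=
    Set.disjoint_iff_inter_eq_empty.2 (congrArg (fun o : C.Opens => (o : Set C)) hdisj)
  have hunit : ∀ a : Γ(C, ⊤), C.basicOpen a = ⊤ → IsUnit a := fun a ha =>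
    C.toRingedSpace.isUnit_of_isUnit_germ ⊤ a fun x hx => (C.mem_basicOpen a x hx).1 (ha.symm ▸ hx)
  have hclopen : IsClopen (C.basicOpen e : Set C) := by
    refine ⟨?_, (C.basicOpen e).2⟩
    rw [← isOpen_compl_iff,
      show (C.basicOpen e : Set C)ᶜ = C.basicOpen (1 - e) from Set.ext fun x =>
        ⟨fun hx => (Set.eq_univ_iff_forall.1 hcov x).resolve_left hx, fun hx hx' => Set.disjoint_left.1 hd hx' hx⟩]
    exact (C.basicOpen (1 - e)).2
  rcases isClopen_iff.1 hclopen with h | h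
  · refine Or.inl ?_
    have h2 : IsUnit (1 - e) := hunit _ (TopologicalSpace.Opens.ext (by simpa [h] using hcov))
    exact (IsUnit.mul_left_eq_zero h2).1 (by rw [mul_sub, mul_one, he, sub_self])
  · refine Or.inr ?_
    exact (IsUnit.mul_left_inj (hunit _ (TopologicalSpace.Opens.ext h))).1 (he.trans (one_mul e).symm)

theorem eq_zero_of_map_eq_zero {k R F : Type u} [Field k] [CommRing R] [Algebra k R] [Field F] [Algebra k F]
    (hR : ∀ e : R, e * e = e → e = 0 ∨ e = 1) (ev : R →ₐ[k] F) {x : R} (hx : IsSepElem k x) (h0 : ev x = 0) :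
    x = 0 := by
  obtain ⟨f, hf, hfx⟩ := hx
  have hf0 : f.eval 0 = 0 := by
    refine (algebraMap k F).injective ?_
    rw [map_zero, ← Polynomial.aeval_algebraMap_apply_eq_algebraMap_eval, map_zero, ← h0,
      Polynomial.aeval_algHom_apply, hfx, map_zero, h0]
  obtain ⟨g, rfl⟩ := Polynomial.X_dvd_iff.2 ((Polynomial.coeff_zero_eq_eval_zero f).trans hf0)
  obtain ⟨a, b, hab⟩ := hf.isCoprime
  have h1 := congrArg (Polynomial.aeval x) hab
  simp only [map_add, map_mul, Polynomial.aeval_X, map_one] at h1 hfx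
  have hE : (Polynomial.aeval x a * x) * (Polynomial.aeval x a * x) = Polynomial.aeval x a * x := by
    linear_combination (Polynomial.aeval x a * x) * h1 - Polynomial.aeval x a * Polynomial.aeval x b * hfx
  rcases hR _ hE with h | h
  · rw [h, zero_add] at h1
    linear_combination (-x) * h1 + Polynomial.aeval x b * hfx
  · have := congrArg ev h
    rw [map_mul, h0, mul_zero, map_one] at this
    exact absurd this zero_ne_one

theorem exists_largest {k : Type u} [Field k] {C : Scheme.{u}} [ConnectedSpace C]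
    (f : C ⟶ Spec (CommRingCat.of k)) [LocallyOfFiniteType f] :
    ∃ (L : CommRingCat.{u}) (σ : CommRingCat.of k ⟶ L) (i : L ⟶ Γ(C, ⊤)), IsField L ∧ σ.hom.Etale ∧
      Function.Injective i ∧ σ ≫ i = (Scheme.ΓSpecIso _).inv ≫ f.appTop ∧
      ∀ (A : CommRingCat.{u}) (α : CommRingCat.of k ⟶ A) (h : A ⟶ Γ(C, ⊤)), α.hom.Etale →
        α ≫ h = (Scheme.ΓSpecIso _).inv ≫ f.appTop → ∃ t : A ⟶ L, t ≫ i = h := by
  let σR : CommRingCat.of k ⟶ Γ(C, ⊤) := (Scheme.ΓSpecIso _).inv ≫ f.appTop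
  letI : Algebra k Γ(C, ⊤) := σR.hom.toAlgebra
  obtain ⟨x⟩ : Nonempty C := inferInstance
  obtain ⟨_, ⟨W, hW, rfl⟩, hxW, -⟩ :=
    C.isBasis_affineOpens.exists_subset_of_mem_open (Set.mem_univ x) isOpen_univ
  let ρ : Γ(C, ⊤) ⟶ Γ(C, W) := C.presheaf.map (homOfLE le_top).op
  letI : Algebra k Γ(C, W) := (σR ≫ ρ).hom.toAlgebra
  haveI : Algebra.FiniteType k Γ(C, W) := by
    show (σR ≫ ρ).hom.FiniteType
    rw [show σR ≫ ρ = (Scheme.ΓSpecIso _).inv ≫ f.appLE ⊤ W le_top from by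
      simp only [σR, ρ, Category.assoc]; rfl]
    exact RingHom.FiniteType.comp (f.finiteType_appLE (isAffineOpen_top _) hW le_top)
      (RingHom.FiniteType.of_surjective _ (Scheme.ΓSpecIso (CommRingCat.of k)).commRingCatIsoToRingEquiv.symm.surjective)
  haveI : Nonempty W := ⟨⟨x, hxW⟩⟩
  obtain ⟨m, hm⟩ := Ideal.exists_maximal Γ(C, W)
  letI := Ideal.Quotient.field m
  haveI : Algebra.FiniteType k (Γ(C, W) ⧸ m) :=
    Algebra.FiniteType.of_surjective (Ideal.Quotient.mkₐ k m) (Ideal.Quotient.mkₐ_surjective k m)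
  haveI : Module.Finite k (Γ(C, W) ⧸ m) := finite_of_finite_type_of_isJacobsonRing k _
  let ev : Γ(C, ⊤) →ₐ[k] Γ(C, W) ⧸ m :=
    (Ideal.Quotient.mkₐ k m).comp ({ ρ.hom with commutes' := fun _ => rfl } : Γ(C, ⊤) →ₐ[k] Γ(C, W))
  let S := sepSubalgebra k (Γ(C, ⊤) : Type u)
  have hinj : Function.Injective (ev.comp S.val) := by
    rw [injective_iff_map_eq_zero]
    exact fun z hz => Subtype.ext (eq_zero_of_map_eq_zero (fun _ he => idempotent_trivial he) ev z.2 hz)
  haveI : Module.Finite k S := Module.Finite.of_injective (ev.comp S.val).toLinearMap hinj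
  haveI : IsDomain S := hinj.isDomain (ev.comp S.val)
  have hfld : IsField S := isField_of_isIntegral_of_isField' (R := k) (Field.toIsField k)
  haveI : Algebra.Etale k S := by
    classical
    obtain ⟨s, hs⟩ := (Module.Finite.fg_top : (⊤ : Submodule k S).FG)
    refine WeakEtale.etale_of_adjoin s ?_ fun b _ => IsSepElem.of_map S.val Subtype.val_injective b.2
    rw [eq_top_iff]
    intro z _
    exact Algebra.span_le_adjoin k _ (hs ▸ Submodule.mem_top : z ∈ Submodule.span k (s : Set S))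
  refine ⟨CommRingCat.of S, CommRingCat.ofHom (algebraMap k S), CommRingCat.ofHom S.val.toRingHom, hfld,
    RingHom.etale_algebraMap.2 inferInstance, Subtype.val_injective, ?_, fun A α h hα hh => ?_⟩
  · ext c; rfl
  · letI : Algebra k A := α.hom.toAlgebra
    haveI : Algebra.Etale k A := hα
    have hmem : ∀ a : A, h a ∈ S := fun a =>
      (WeakEtale.isSepElem_of_weaklyEtale (K := k) a).map
        ({ h.hom with commutes' := fun c => ConcreteCategory.congr_hom hh c } : A →ₐ[k] Γ(C, ⊤))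
    exact ⟨CommRingCat.ofHom (h.hom.codRestrict S.toSubring hmem), rfl⟩

theorem appTop_toSpecΓ_comp {C : Scheme.{u}} {R : CommRingCat.{u}} (φ : R ⟶ Γ(C, ⊤)) :
    (C.toSpecΓ ≫ Spec.map φ).appTop = (Scheme.ΓSpecIso R).hom ≫ φ := by
  rw [Scheme.Hom.comp_appTop, Scheme.toSpecΓ_appTop, Scheme.ΓSpecIso_naturality]

theorem eq_toSpecΓ_comp {C Y : Scheme.{u}} [IsAffine Y] (h : C ⟶ Y) :
    h = C.toSpecΓ ≫ Spec.map h.appTop ≫ Y.isoSpec.inv := by
  rw [← Scheme.toSpecΓ_naturality_assoc, ← Scheme.isoSpec_hom, Iso.hom_inv_id, Category.comp_id]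

theorem eq_of_comp_eq {C W : Scheme.{u}} {L : CommRingCat.{u}} [IsAffine W] (i : L ⟶ Γ(C, ⊤))
    (hi : Function.Injective i) {a b : Spec L ⟶ W}
    (h : (C.toSpecΓ ≫ Spec.map i) ≫ a = (C.toSpecΓ ≫ Spec.map i) ≫ b) : a = b := by
  have h1 := congrArg Scheme.Hom.appTop h
  rw [Scheme.Hom.comp_appTop, Scheme.Hom.comp_appTop _ b, appTop_toSpecΓ_comp] at h1
  refine ext_of_isAffine (ConcreteCategory.hom_ext _ _ fun z => ?_)
  exact (Scheme.ΓSpecIso L).commRingCatIsoToRingEquiv.injective (hi (ConcreteCategory.congr_hom h1 z))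

/-- A point of a scheme étale over a field is open. -/
theorem isOpen_singleton_of_etale {k : Type u} [Field k] {Y : Scheme.{u}} (gY : Y ⟶ Spec (CommRingCat.of k))
    [Etale gY] (y : Y) : IsOpen ({y} : Set Y) := by
  obtain ⟨_, ⟨V, hV, rfl⟩, hyV, -⟩ :=
    Y.isBasis_affineOpens.exists_subset_of_mem_open (Set.mem_univ y) isOpen_univ
  haveI : IsAffine ((V : Y.Opens) : Scheme.{u}) := hV
  let V : Y.Opens := V
  let A : CommRingCat.{u} := Γ((V : Scheme.{u}), ⊤)
  let α : CommRingCat.of k ⟶ A := (Scheme.ΓSpecIso _).inv ≫ (V.ι ≫ gY).appTop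
  have hα : α.hom.Etale :=
    RingHom.Etale.respectsIso.2 _ (Scheme.ΓSpecIso (CommRingCat.of k)).commRingCatIsoToRingEquiv.symm
      (HasRingHomProperty.appTop (P := @Etale) (V.ι ≫ gY) inferInstance)
  letI : Algebra k A := α.hom.toAlgebra
  haveI : Algebra.Etale k A := hα
  haveI : Module.Finite k A := Algebra.FormallyUnramified.finite_of_free k A
  haveI : IsArtinianRing A := IsArtinianRing.of_finite k A
  haveI : DiscreteTopology (Spec A) := inferInstanceAs (DiscreteTopology (PrimeSpectrum A))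
  haveI : DiscreteTopology (V : Scheme.{u}) :=
    DiscreteTopology.of_continuous_injective (V : Scheme.{u}).isoSpec.hom.continuous
      (V : Scheme.{u}).isoSpec.hom.homeomorph.injective
  have := V.ι.isOpenEmbedding.isOpenMap _ (isOpen_discrete ({⟨y, hyV⟩} : Set (V : Scheme.{u})))
  rwa [Set.image_singleton] at this

theorem conn_case {k : Type u} [Field k] {C : Scheme.{u}} [ConnectedSpace C]
    (f : C ⟶ Spec (CommRingCat.of k)) [LocallyOfFiniteType f] :
    ∃ (P : Scheme.{u}) (g : P ⟶ Spec (CommRingCat.of k)) (q : C ⟶ P), Subsingleton P ∧ Etale g ∧ q ≫ g = f ∧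
      Flat q ∧ Surjective q ∧
      ∀ (Y : Scheme.{u}) (gY : Y ⟶ Spec (CommRingCat.of k)) (h : C ⟶ Y), Etale gY → h ≫ gY = f →
        ∃! t : P ⟶ Y, t ≫ gY = g ∧ q ≫ t = h := by
  obtain ⟨L, σ, i, hfld, hσ, hi, hσi, huniv⟩ := exists_largest f
  letI := hfld.toField
  have hqg : (C.toSpecΓ ≫ Spec.map i) ≫ Spec.map σ = f := by
    refine ext_of_isAffine ?_
    rw [Category.assoc, ← Spec.map_comp, appTop_toSpecΓ_comp, hσi, Iso.hom_inv_id_assoc]
  obtain ⟨x₀⟩ : Nonempty C := inferInstance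
  haveI : Subsingleton (Spec L) := inferInstanceAs (Subsingleton (PrimeSpectrum L))
  haveI hsurj : Surjective (C.toSpecΓ ≫ Spec.map i) := ⟨fun y => ⟨x₀, Subsingleton.elim _ _⟩⟩
  refine ⟨Spec L, Spec.map σ, C.toSpecΓ ≫ Spec.map i, inferInstance,
    (HasRingHomProperty.Spec_iff (P := @Etale)).2 hσ, hqg, DiagGrp.flat_of_field (L := L) _, hsurj,
    fun Y gY h hY hh => ?_⟩
  have hconst : ∀ x, h x = h x₀ := fun x => by
    have hopen : IsClopen (h ⁻¹' {h x₀}) := by
      refine ⟨isOpen_compl_iff.1 ?_, (isOpen_singleton_of_etale gY _).preimage h.continuous⟩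
      rw [← Set.preimage_compl, ← Set.biUnion_of_singleton ({h x₀}ᶜ : Set Y), Set.preimage_iUnion₂]
      exact isOpen_biUnion fun z _ => (isOpen_singleton_of_etale gY z).preimage h.continuous
    exact (hopen.eq_univ ⟨x₀, rfl⟩).ge (Set.mem_univ x)
  let U : Y.Opens := ⟨{h x₀}, isOpen_singleton_of_etale gY _⟩
  haveI : Subsingleton (U : Scheme.{u}) := ⟨fun a b => Subtype.ext (a.2.trans b.2.symm)⟩
  haveI : Finite (U : Scheme.{u}) := inferInstance
  haveI : DiscreteTopology (U : Scheme.{u}) := inferInstance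
  haveI : IsAffine (U : Scheme.{u}) := inferInstance
  have hrange : Set.range h ⊆ Set.range U.ι := by
    rintro _ ⟨x, rfl⟩
    exact ⟨⟨h x, hconst x⟩, rfl⟩
  let h' : C ⟶ (U : Scheme.{u}) := IsOpenImmersion.lift U.ι h hrange
  have hh' : h' ≫ U.ι = h := IsOpenImmersion.lift_fac _ _ _
  let α : CommRingCat.of k ⟶ Γ((U : Scheme.{u}), ⊤) := (Scheme.ΓSpecIso _).inv ≫ (U.ι ≫ gY).appTop
  have hα : α.hom.Etale :=
    RingHom.Etale.respectsIso.2 _ (Scheme.ΓSpecIso (CommRingCat.of k)).commRingCatIsoToRingEquiv.symm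
      (HasRingHomProperty.appTop (P := @Etale) (U.ι ≫ gY) inferInstance)
  obtain ⟨t, ht⟩ := huniv _ α h'.appTop hα (by
    show ((Scheme.ΓSpecIso _).inv ≫ (U.ι ≫ gY).appTop) ≫ h'.appTop = _
    rw [Category.assoc, ← Scheme.Hom.comp_appTop, ← Category.assoc h', hh', hh])
  let T : Spec L ⟶ Y := (Spec.map t ≫ (U : Scheme.{u}).isoSpec.inv) ≫ U.ι
  have hqT : (C.toSpecΓ ≫ Spec.map i) ≫ T = h := by
    simp only [T, ← Category.assoc]
    rw [Category.assoc C.toSpecΓ, ← Spec.map_comp, ht, Category.assoc C.toSpecΓ, ← eq_toSpecΓ_comp, hh']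
  refine ⟨T, ⟨eq_of_comp_eq i hi ?_, hqT⟩, fun T' hT' => ?_⟩
  · rw [← Category.assoc, hqT, hh, hqg]
  · have hr : Set.range T' ⊆ Set.range U.ι := by
      rintro _ ⟨p, rfl⟩
      refine ⟨⟨h x₀, rfl⟩, ?_⟩
      show h x₀ = T' p
      rw [← hT'.2, Scheme.Hom.comp_apply, Subsingleton.elim ((C.toSpecΓ ≫ Spec.map i) x₀) p]
    have e := IsOpenImmersion.lift_fac U.ι T' hr
    rw [← e]
    refine congrArg (· ≫ U.ι) (eq_of_comp_eq i hi ?_)
    rw [← cancel_mono U.ι, Category.assoc, e, hT'.2, Category.assoc, ← hqT]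

end GrothLib.CompScheme5
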