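import Groth.Agent.Lib.CompScheme5.Conn
import Groth.Agent.Lib.LocNoeth.Space
import Mathlib.AlgebraicGeometry.Limits
import Mathlib.AlgebraicGeometry.Noetherian

/-!
# The scheme of connected components
-/

set_option autoImplicit false
set_option maxHeartbeats 600000
universe u

open CategoryTheory CategoryTheory.Limits AlgebraicGeometry TopologicalSpace

namespace GrothLib.CompScheme5

theorem exists_componentsScheme {k : Type u} [Field k] (X : Scheme.{u}) (f : X ⟶ Spec (CommRingCat.of k))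
    [LocallyOfFiniteType f] :
    ∃ (P : Scheme.{u}) (g : P ⟶ Spec (CommRingCat.of k)) (q : X ⟶ P), Etale g ∧ q ≫ g = f ∧
      (∀ (Y : Scheme.{u}) (gY : Y ⟶ Spec (CommRingCat.of k)) (h : X ⟶ Y), Etale gY → h ≫ gY = f →
        ∃! t : P ⟶ Y, t ≫ gY = g ∧ q ≫ t = h) ∧
      Flat q ∧ Surjective q ∧
      ∀ x : ↥X, (fun x' : ↥X => q x') ⁻¹' {q x} = connectedComponent x := by
  haveI : IsLocallyNoetherian X := LocallyOfFiniteType.isLocallyNoetherian f
  have hLN : LocNoeth.IsLocNoeth (X : Type u) := fun x => by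
    obtain ⟨_, ⟨W, hW, rfl⟩, hxW, -⟩ :=
      X.isBasis_affineOpens.exists_subset_of_mem_open (Set.mem_univ x) isOpen_univ
    haveI := IsLocallyNoetherian.component_noetherian (X := X) ⟨W, hW⟩
    exact ⟨W, W.2.mem_nhds hxW, noetherianSpace_of_isAffineOpen W hW⟩
  let ι := ConnectedComponents (X : Type u)
  have hfib : ∀ x : X, ConnectedComponents.mk ⁻¹' {ConnectedComponents.mk x} = connectedComponent x :=
    fun _ => connectedComponents_preimage_singleton
  let U : ι → X.Opens := fun c => ⟨ConnectedComponents.mk ⁻¹' {c}, by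
    obtain ⟨x, rfl⟩ := ConnectedComponents.surjective_coe c
    rw [hfib]
    exact hLN.isOpen_connectedComponent x⟩
  haveI : ∀ c, ConnectedSpace (U c : Scheme.{u}) := fun c => by
    obtain ⟨x, rfl⟩ := ConnectedComponents.surjective_coe c
    refine isConnected_iff_connectedSpace.1 ?_
    show _root_.IsConnected (ConnectedComponents.mk ⁻¹' {ConnectedComponents.mk x})
    rw [hfib]
    exact isConnected_connectedComponent
  obtain ⟨hX⟩ : Nonempty (IsColimit (Cofan.mk X fun c => (U c).ι)) := by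
    refine nonempty_isColimit_cofanMk_of _ (eq_top_iff.2 fun x _ => ?_) fun c d hcd => ?_
    · exact Opens.mem_iSup.2 ⟨ConnectedComponents.mk x, ⟨⟨x, rfl⟩, rfl⟩⟩
    · show Disjoint (U c).ι.opensRange (U d).ι.opensRange
      rw [Scheme.Opens.opensRange_ι, Scheme.Opens.opensRange_ι, disjoint_iff, eq_bot_iff]
      intro x hx
      exact hcd (hx.1.symm.trans hx.2)
  choose P g q hsub het hqg hflat hsurj huniv using fun c => conn_case ((U c).ι ≫ f)
  let Q : X ⟶ ∐ P := Cofan.IsColimit.desc hX fun c => q c ≫ Sigma.ι P c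
  have hQ : ∀ c, (U c).ι ≫ Q = q c ≫ Sigma.ι P c := fun c => Cofan.IsColimit.fac hX _ c
  have hQg : Q ≫ Sigma.desc g = f := Cofan.IsColimit.hom_ext hX _ _ fun c => by
    show (U c).ι ≫ Q ≫ Sigma.desc g = (U c).ι ≫ f
    rw [← Category.assoc, hQ, Category.assoc, Sigma.ι_desc, hqg]
  have hQx : ∀ (c : ι) (x : (U c : Scheme.{u})), Q x.1 = Sigma.ι P c (q c x) := fun c x => by
    show ((U c).ι ≫ Q) x = _
    rw [hQ]
    rfl
  refine ⟨∐ P, Sigma.desc g, Q, IsZariskiLocalAtSource.sigmaDesc het, hQg, fun Y gY h hY hh => ?_, ?_, ?_,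
    fun x => ?_⟩
  · choose t ht ht' using fun c => huniv c Y gY ((U c).ι ≫ h) hY (by rw [Category.assoc, hh])
    refine ⟨Sigma.desc t, ⟨Sigma.hom_ext _ _ fun c => by rw [Sigma.ι_desc_assoc, Sigma.ι_desc, (ht c).1],
      Cofan.IsColimit.hom_ext hX _ _ fun c => ?_⟩, fun t' ht'' => Sigma.hom_ext _ _ fun c => ?_⟩
    · show (U c).ι ≫ Q ≫ Sigma.desc t = (U c).ι ≫ h
      rw [← Category.assoc, hQ, Category.assoc, Sigma.ι_desc, (ht c).2]
    · rw [Sigma.ι_desc]
      refine ht' c _ ⟨?_, ?_⟩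
      · rw [Category.assoc, ht''.1, Sigma.ι_desc]
      · rw [← Category.assoc, ← hQ, Category.assoc, ht''.2]
  · rw [IsZariskiLocalAtSource.iff_of_openCover (P := @Flat) (X.openCoverOfIsOpenCover U
      (eq_top_iff.2 fun x _ => Opens.mem_iSup.2 ⟨ConnectedComponents.mk x, rfl⟩))]
    intro c
    show Flat ((U c).ι ≫ Q)
    rw [hQ]
    haveI := hflat c
    infer_instance
  · refine ⟨fun p => ?_⟩
    obtain ⟨⟨c, p⟩, rfl⟩ := (sigmaMk P).surjective p
    obtain ⟨x, rfl⟩ := (hsurj c).surj p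
    exact ⟨x.1, (hQx c x).trans (sigmaMk_mk P c _).symm⟩
  · rw [← hfib]
    ext x'
    haveI := fun c => hsub c
    show Q x' = Q x ↔ ConnectedComponents.mk x' = ConnectedComponents.mk x
    rw [hQx (ConnectedComponents.mk x') ⟨x', rfl⟩, hQx (ConnectedComponents.mk x) ⟨x, rfl⟩, sigmaι_eq_iff]
    refine ⟨fun e => congrArg Sigma.fst e, fun e => ?_⟩
    exact Sigma.ext e (Subsingleton.helim (congrArg (fun c => (P c : Type u)) e) _ _)

end GrothLib.CompScheme5
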